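import Groth.Agent.EtAlg.K416.RefN2
import Groth.Agent.EtAlg.K589.RefN3
import Mathlib.LinearAlgebra.Basis.VectorSpace

/-!
# The maximal unramified extension `FF` (node N4 of job 600)
-/

set_option autoImplicit false

namespace Groth.Agent.EtAlg.K956.RefN4

open Groth.Agent.Etalg.EppFrame Groth.Agent.EtAlg.K405 Polynomial

variable {Ω : Type} [NormedField Ω] (C : Ctx Ω)

/-- Elements of `FF` are sums `∑ a j * e j`, `a j ∈ K`, `e j ∈ kk` linearly independent over `k0`. -/
theorem exists_sum {x : Ω} (hx : x ∈ C.FF) : ∃ (ι : Type) (_ : Fintype ι) (e a : ι → Ω), (∀ i, e i ∈ C.kk) ∧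
    LinearIndependent C.k0 e ∧ (∀ i, a i ∈ C.K) ∧ x = ∑ i, a i * e i := by
  classical
  -- `FF = K[kk]`
  have h1 : x ∈ IntermediateField.adjoin C.K (C.kk : Set Ω) := by
    rw [← IntermediateField.mem_toSubfield]
    have h2 : C.FF ≤ (IntermediateField.adjoin C.K (C.kk : Set Ω)).toSubfield := by
      refine sup_le ?_ ?_
      · intro y hy
        exact (IntermediateField.adjoin C.K (C.kk : Set Ω)).algebraMap_mem ⟨y, hy⟩
      · intro y hy
        exact IntermediateField.subset_adjoin C.K _ hy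
    exact h2 hx
  have h3 : x ∈ Algebra.adjoin C.K (C.kk : Set Ω) := by
    rw [← IntermediateField.adjoin_toSubalgebra_of_isAlgebraic (F := C.K) (fun y _ => C.alg y)]
    exact h1
  have h4 : x ∈ Submodule.span C.K (C.kk : Set Ω) := by
    rw [← Subalgebra.mem_toSubmodule, Algebra.adjoin_eq_span] at h3
    have h5 : Submonoid.closure (C.kk : Set Ω) = C.kk.toSubmonoid := C.kk.toSubmonoid.closure_eq
    rw [h5] at h3
    exact h3
  let E := separableClosure C.k0 Ω
  let b := Module.Basis.ofVectorSpace C.k0 E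
  have h6 : Submodule.span C.K (C.kk : Set Ω) ≤ Submodule.span C.K (Set.range fun i => ((b i : E) : Ω)) := by
    rw [Submodule.span_le]
    intro y hy
    have hy' : y ∈ E := hy
    have h7 := b.mem_span (⟨y, hy'⟩ : E)
    have h8 := Submodule.mem_map_of_mem (f := E.val.toLinearMap) h7
    rw [Submodule.map_span, ← Set.range_comp] at h8
    -- from `k0` to `K`
    have h9 : ∀ z ∈ Submodule.span C.k0 (Set.range (E.val.toLinearMap ∘ b)),
        z ∈ Submodule.span C.K (Set.range fun i => ((b i : E) : Ω)) := by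
      intro z hz
      induction hz using Submodule.span_induction with
      | mem z hz => exact Submodule.subset_span hz
      | zero => exact Submodule.zero_mem _
      | add u v _ _ hu hv => exact Submodule.add_mem _ hu hv
      | smul c u _ hu => exact Submodule.smul_mem _ (⟨c, C.k0_le c.2⟩ : C.K) hu
    exact h9 _ h8
  obtain ⟨c, hc⟩ := (Finsupp.mem_span_range_iff_exists_finsupp).1 (h6 h4)
  refine ⟨c.support, inferInstance, fun i => ((b i : E) : Ω), fun i => ((c i : C.K) : Ω), ?_, ?_, ?_, ?_⟩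
  · intro i
    exact (b i).2
  · have h10 : LinearIndependent C.k0 (fun i => ((b i : E) : Ω)) :=
      b.linearIndependent.map' E.val.toLinearMap (LinearMap.ker_eq_bot.2 E.val.injective)
    exact h10.comp (fun i : c.support => (i : _)) Subtype.val_injective
  · intro i
    exact (c i).2
  · rw [← hc, Finsupp.sum, ← Finset.sum_coe_sort]
    rfl

theorem N4c_sep : ∀ x ∈ C.FF, IsSeparable C.K x := by
  have h : C.FF ≤ (separableClosure C.K Ω).toSubfield := by
    refine sup_le ?_ ?_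
    · intro y hy
      exact (separableClosure C.K Ω).algebraMap_mem ⟨y, hy⟩
    · intro y hy
      rw [IntermediateField.mem_toSubfield, mem_separableClosure_iff]
      let _ : Algebra C.k0 C.K := (Subfield.inclusion C.k0_le).toAlgebra
      have : IsScalarTower C.k0 C.K Ω := IsScalarTower.of_algebraMap_eq fun _ => rfl
      exact IsSeparable.tower_top C.K (C.mem_kk.1 hy)
  intro x hx
  exact mem_separableClosure_iff.1 (h hx)

theorem N4d_map (σ : Ω ≃ₐ[C.K] Ω) : ∀ x ∈ C.FF, σ x ∈ C.FF := by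
  have h : C.FF ≤ C.FF.comap (σ : Ω →+* Ω) := by
    refine sup_le ?_ ?_
    · intro y hy
      have h1 : σ y = y := σ.commutes ⟨y, hy⟩
      change σ y ∈ C.FF
      rw [h1]
      exact C.K_le_FF hy
    · intro y hy
      refine C.kk_le_FF (C.mem_kk.2 ?_)
      let _ : Algebra C.k0 C.K := (Subfield.inclusion C.k0_le).toAlgebra
      have : IsScalarTower C.k0 C.K Ω := IsScalarTower.of_algebraMap_eq fun _ => rfl
      have h2 : IsSeparable C.k0 y := C.mem_kk.1 hy
      exact (isSeparable_map_iff (f := (σ.restrictScalars C.k0 : Ω ≃ₐ[C.k0] Ω).toAlgHom)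
        (σ.injective)).2 h2
  intro x hx
  exact h hx

variable [IsUltrametricDist Ω]

theorem norm_sum_lt {ι : Type} (s : Finset ι) (f : ι → Ω) (h : ∀ i ∈ s, ‖f i‖ < 1) : ‖∑ i ∈ s, f i‖ < 1 := by
  classical
  rcases s.eq_empty_or_nonempty with rfl | hs
  · simp
  · obtain ⟨i, hi, h1⟩ := IsUltrametricDist.exists_norm_finsetSum_le_of_nonempty hs f
    exact h1.trans_lt (h i hi)

theorem N4b_res [CharP Ω 2] [IsAlgClosed Ω] : ∀ x ∈ C.FF, ‖x‖ ≤ 1 → ∃ a ∈ C.kk, ‖x - a‖ < 1 := by
  intro x hx hx1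
  have hkb : ∀ x ∈ C.kb, x ≠ 0 → ‖x‖ = 1 := fun x hx h0 => K416.RefN2.N2a_norm_kb C hx h0
  obtain ⟨ι, _, e, a, he, hli, ha, rfl⟩ := exists_sum C hx
  have h1 : ∀ i, ‖a i‖ ≤ 1 := fun i => (K589.RefN3.N3_gauss hkb (C.k0_le_kk.trans C.kk_le_kb) C.res e e
    (fun i => C.kk_le_kb (he i)) hli (fun i => by simp) a ha i).trans hx1
  choose a' ha' ha'' using fun i => C.res (a i) (ha i) (h1 i)
  refine ⟨∑ i, a' i * e i, sum_mem fun i _ => mul_mem (C.k0_le_kk (ha' i)) (he i), ?_⟩
  rw [← Finset.sum_sub_distrib]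
  refine norm_sum_lt _ _ fun i _ => ?_
  rw [← sub_mul, norm_mul]
  have h2 : ‖e i‖ ≤ 1 := by
    rcases eq_or_ne (e i) 0 with h | h
    · rw [h, norm_zero]; exact zero_le_one
    · exact (hkb _ (C.kk_le_kb (he i)) h).le
  calc ‖a i - a' i‖ * ‖e i‖ ≤ ‖a i - a' i‖ * 1 := mul_le_mul_of_nonneg_left h2 (norm_nonneg _)
    _ < 1 := by rw [mul_one]; exact ha'' i

theorem N4a_disc [CharP Ω 2] [IsAlgClosed Ω] : Disc C.FF C.t := by
  refine ⟨C.disc.1, C.disc.2.1, fun x hx hx0 => ?_⟩
  have hkb : ∀ x ∈ C.kb, x ≠ 0 → ‖x‖ = 1 := fun x hx h0 => K416.RefN2.N2a_norm_kb C hx h0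
  obtain ⟨ι, _, e, a, he, hli, ha, rfl⟩ := exists_sum C hx
  obtain ⟨y, hy, hyx⟩ := K589.RefN3.N3_norm_mem hkb (C.k0_le_kk.trans C.kk_le_kb) C.res e e
    (fun i => C.kk_le_kb (he i)) hli (fun i => by simp) a ha
  rw [← hyx]
  refine C.disc.2.2 y hy ?_
  rintro rfl
  rw [norm_zero] at hyx
  exact hx0 (norm_eq_zero.1 hyx.symm)

end Groth.Agent.EtAlg.K956.RefN4
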